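/-
The Čech complex of a family of opens having a maximal member.
-/
import Groth.Agent.SiteCoh.Cech
import Mathlib

set_option backward.isDefEq.respectTransparency false
set_option backward.isDefEq.respectTransparency.types false
set_option autoImplicit false

universe u

open CategoryTheory Category Limits Opposite TopologicalSpace Groth.Agent.SiteCoh

namespace Groth.Agent.CechTriv

variable {X : TopCat.{u}} (F : (Opens X)ᵒᵖ ⥤ AddCommGrpCat.{u}) {ι : Type u} (U : ι → Opens X)

/-- The projection to a component. -/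
noncomputable abbrev pr {n : ℕ} (a : Fin (n + 1) → ι) : (cechCx U F).X n ⟶ F.obj (op (tupleProd U a)) :=
  Pi.π (fun a : Fin (n + 1) → ι => F.obj (op (tupleProd U a))) a

theorem pr_ext {n : ℕ} {A : AddCommGrpCat.{u}} {f g : A ⟶ (cechCx U F).X n}
    (h : ∀ a : Fin (n + 1) → ι, f ≫ pr F U a = g ≫ pr F U a) : f = g :=
  Pi.hom_ext _ _ h

theorem d_pr (n : ℕ) (a : Fin (n + 2) → ι) : (cechCx U F).d n (n + 1) ≫ pr F U a =
    ∑ k : Fin (n + 2), (-1 : ℤ) ^ (k : ℕ) • (pr F U (a ∘ k.succAbove) ≫ F.map (tupleDrop U a k).op) := by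
  refine (congr_arg (· ≫ pr F U a)
    (coface_d ((FormalCoproduct.cosimplicialObjectFunctor (FormalCoproduct.mk _ U).cech).obj F) n)).trans ?_
  refine (Preadditive.sum_comp _ _ _).trans ?_
  refine Finset.sum_congr rfl fun k _ => ?_
  refine (Preadditive.zsmul_comp _ _ _).trans ?_
  exact congr_arg _ (Pi.lift_π _ _)

theorem pr_congr {n : ℕ} {a b : Fin (n + 1) → ι} (h : a = b) {W : Opens X} (g : W ⟶ tupleProd U a)
    (g' : W ⟶ tupleProd U b) : pr F U a ≫ F.map g.op = pr F U b ≫ F.map g'.op := by
  subst h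
  rw [Subsingleton.elim g g']

variable (i : ι) (hi : U i = iSup U)

include hi in
theorem le_consProd {n : ℕ} (a : Fin (n + 1) → ι) : tupleProd U a ≤ tupleProd U (Fin.cons i a) :=
  (Pi.lift fun j => Fin.cases (motive := fun j => tupleProd U a ⟶ U (Fin.cons (α := fun _ => ι) i a j))
    (homOfLE ((leOfHom (Pi.π (U ∘ a) 0)).trans ((le_iSup U (a 0)).trans hi.ge)))
    (fun k => Pi.π (U ∘ a) k ≫ eqToHom (by simp)) j : tupleProd U a ⟶ tupleProd U (Fin.cons i a)).le

/-- Prepending the maximal index. -/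
noncomputable def hh (n : ℕ) : (cechCx U F).X (n + 1) ⟶ (cechCx U F).X n :=
  Pi.lift fun a : Fin (n + 1) → ι => pr F U (Fin.cons i a) ≫ F.map (homOfLE (le_consProd U i hi a)).op

theorem hh_pr (n : ℕ) (a : Fin (n + 1) → ι) :
    hh F U i hi n ≫ pr F U a = pr F U (Fin.cons i a) ≫ F.map (homOfLE (le_consProd U i hi a)).op :=
  Pi.lift_π _ _

theorem d_hh_pr (n : ℕ) (a : Fin (n + 1) → ι) :
    (cechCx U F).d n (n + 1) ≫ hh F U i hi n ≫ pr F U a =
      pr F U a + ∑ k : Fin (n + 1), (-1 : ℤ) ^ ((k : ℕ) + 1) •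
        (pr F U ((Fin.cons i a : Fin (n + 2) → ι) ∘ k.succ.succAbove) ≫
          F.map (homOfLE ((le_consProd U i hi a).trans (leOfHom (tupleDrop U (Fin.cons i a) k.succ)))).op) := by
  rw [hh_pr, ← Category.assoc, d_pr, Preadditive.sum_comp, Fin.sum_univ_succ]
  congr 1
  · rw [Fin.val_zero, pow_zero, one_smul, Category.assoc, ← F.map_comp, ← op_comp,
      pr_congr F U (b := a) (by ext j; simp) _ (𝟙 _)]
    simp
  · refine Finset.sum_congr rfl fun k _ => ?_
    rw [Preadditive.zsmul_comp, Category.assoc, ← F.map_comp, ← op_comp, Fin.val_succ]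
    exact congrArg _ (pr_congr F U rfl _ _)

theorem add_eq (n : ℕ) :
    hh F U i hi n ≫ (cechCx U F).d n (n + 1) + (cechCx U F).d (n + 1) (n + 2) ≫ hh F U i hi (n + 1) = 𝟙 _ := by
  refine pr_ext F U fun a => ?_
  rw [Preadditive.add_comp, Category.id_comp, Category.assoc, Category.assoc, d_pr, Preadditive.comp_sum,
    d_hh_pr, add_left_comm, ← Finset.sum_add_distrib, Finset.sum_eq_zero, add_zero]
  intro k _
  rw [Preadditive.comp_zsmul, ← Category.assoc, hh_pr, Category.assoc, ← F.map_comp, ← op_comp,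
    pr_congr F U (b := (Fin.cons i a : Fin (n + 3) → ι) ∘ k.succ.succAbove) ?_ _
      (homOfLE ((le_consProd U i hi a).trans (leOfHom (tupleDrop U (Fin.cons i a) k.succ)))), pow_succ, mul_neg,
    mul_one, neg_smul, add_neg_cancel]
  ext j
  induction j using Fin.cases with
  | zero => simp
  | succ j => simp

theorem le_iSup_prod {n : ℕ} (a : Fin (n + 1) → ι) : tupleProd U a ≤ iSup U :=
  (leOfHom (Pi.π (U ∘ a) 0)).trans (le_iSup U (a 0))

include hi in
theorem iSup_le_const : iSup U ≤ tupleProd U (fun _ : Fin 1 => i) :=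
  (Pi.lift fun _ => homOfLE hi.ge : iSup U ⟶ tupleProd U (fun _ : Fin 1 => i)).le

/-- Restriction to the members. -/
noncomputable def aug : F.obj (op (iSup U)) ⟶ (cechCx U F).X 0 :=
  Pi.lift fun a : Fin 1 → ι => F.map (homOfLE (le_iSup_prod U a)).op

theorem aug_pr (a : Fin 1 → ι) : aug F U ≫ pr F U a = F.map (homOfLE (le_iSup_prod U a)).op :=
  Pi.lift_π _ _

theorem aug_d : aug F U ≫ (cechCx U F).d 0 1 = 0 := by
  refine pr_ext F U fun a => ?_
  rw [Category.assoc, d_pr, Preadditive.comp_sum, Fin.sum_univ_two, zero_comp]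
  simp only [Fin.val_zero, Fin.val_one, pow_zero, pow_one, one_smul, neg_smul, Preadditive.comp_neg]
  rw [← Category.assoc, aug_pr, ← Category.assoc, aug_pr, ← F.map_comp, ← F.map_comp]
  simp only [← op_comp]
  exact add_neg_eq_zero.2 (congrArg (fun g => F.map (Quiver.Hom.op g)) (Subsingleton.elim _ _))

/-- Evaluation at the maximal member. -/
noncomputable def ev : (cechCx U F).X 0 ⟶ F.obj (op (iSup U)) :=
  pr F U (fun _ : Fin 1 => i) ≫ F.map (homOfLE (iSup_le_const U i hi)).op

theorem aug_ev : aug F U ≫ ev F U i hi = 𝟙 _ := by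
  rw [ev, ← Category.assoc, aug_pr, ← F.map_comp, ← op_comp,
    Subsingleton.elim (_ ≫ _) (𝟙 (iSup U))]
  simp

theorem ev_aug : ev F U i hi ≫ aug F U + (cechCx U F).d 0 1 ≫ hh F U i hi 0 = 𝟙 _ := by
  refine pr_ext F U fun a => ?_
  rw [Preadditive.add_comp, Category.assoc, Category.assoc, Category.id_comp, aug_pr, d_hh_pr, ev, Category.assoc,
    ← F.map_comp, ← op_comp, Fin.sum_univ_one, add_left_comm]
  simp only [Fin.val_zero, zero_add, pow_one, neg_smul, one_smul]
  rw [pr_congr F U (b := (Fin.cons i a : Fin 2 → ι) ∘ (0 : Fin 1).succ.succAbove)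
    (by ext j; fin_cases j; simp) _
    (homOfLE ((le_consProd U i hi a).trans (leOfHom (tupleDrop U (Fin.cons i a) (0 : Fin 1).succ)))),
    add_neg_cancel, add_zero]

/-- The Čech complex of a family with a maximal member. -/
noncomputable def homotopyEquiv :
    HomotopyEquiv ((CochainComplex.single₀ AddCommGrpCat.{u}).obj (F.obj (op (iSup U)))) (cechCx U F) where
  hom := (CochainComplex.fromSingle₀Equiv _ _).symm ⟨aug F U, aug_d F U⟩
  inv := (CochainComplex.toSingle₀Equiv _ _).symm (ev F U i hi)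
  homotopyHomInvId := Homotopy.ofEq (by
    ext1
    simp [aug_ev])
  homotopyInvHomId :=
    { hom := fun j k => if h : k + 1 = j then eqToHom (by rw [h]) ≫ (-(hh F U i hi k)) else 0
      zero := fun j k hjk => dif_neg hjk
      comm := fun n => by
        cases n with
        | zero =>
          rw [Homotopy.dNext_cochainComplex, Homotopy.prevD_zero_cochainComplex, dif_pos rfl]
          simp only [eqToHom_refl, Category.id_comp, HomologicalComplex.comp_f, HomologicalComplex.id_f,
            CochainComplex.fromSingle₀Equiv_symm_apply_f_zero, CochainComplex.toSingle₀Equiv_symm_apply_f_zero,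
            Preadditive.comp_neg]
          rw [← ev_aug F U i hi]
          abel
        | succ n =>
          rw [Homotopy.dNext_cochainComplex, Homotopy.prevD_succ_cochainComplex, dif_pos rfl, dif_pos rfl]
          simp only [eqToHom_refl, Category.id_comp, Preadditive.comp_neg, Preadditive.neg_comp,
            HomologicalComplex.comp_f, HomologicalComplex.id_f]
          rw [(HomologicalComplex.isZero_single_obj_X (ComplexShape.up ℕ) 0 _ (n + 1) (by omega)).eq_of_tgt
            (((CochainComplex.toSingle₀Equiv _ _).symm (ev F U i hi)).f (n + 1)) 0, zero_comp,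
            ← add_eq F U i hi n]
          abel }

end Groth.Agent.CechTriv
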